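import Groth.Agent.DivX.CodimOne
import Groth.Agent.CartierFP.Stalks
import Mathlib.RingTheory.Ideal.AssociatedPrime.Basic

/-!
# Ideals without embedded components, pure of codimension one, in factorial rings
-/

set_option backward.isDefEq.respectTransparency false
set_option linter.style.haveILetI false

universe u

open CategoryTheory AlgebraicGeometry TopologicalSpace

namespace Groth.Agent.DivX

/-- In a factorial noetherian domain, an ideal whose associated primes all have height one is principal. -/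
theorem exists_span_of_assPrimes {A : Type u} [CommRing A] [IsDomain A] [UniqueFactorizationMonoid A]
    [IsNoetherianRing A] (I : Ideal A)
    (hI : ∀ P : Ideal A, P.IsPrime → ∀ a : A, (∀ c, c ∈ P ↔ c * a ∈ I) → P.height = 1) :
    ∃ g : A, g ≠ 0 ∧ I = Ideal.span {g} := by
  induction I using WellFoundedGT.induction with
  | _ I ih =>
    by_cases htop : I = ⊤
    · exact ⟨1, one_ne_zero, by rw [htop, Ideal.span_singleton_one]⟩
    have h1 : (Ideal.Quotient.mk I 1 : A ⧸ I) ≠ 0 := by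
      rw [Ne, Ideal.Quotient.eq_zero_iff_mem, ← Ideal.eq_top_iff_one]
      exact htop
    obtain ⟨P, hP, -⟩ := exists_le_isAssociatedPrime_of_isNoetherianRing A (M := A ⧸ I) _ h1
    obtain ⟨hPp, y, hy⟩ := isAssociatedPrime_iff.1 hP
    obtain ⟨a, rfl⟩ := Ideal.Quotient.mk_surjective y
    have hPmem : ∀ c, c ∈ P ↔ c * a ∈ I := fun c => by
      rw [hy, Submodule.mem_colon_singleton, Submodule.mem_bot, Algebra.smul_def]
      exact (by rw [← Ideal.Quotient.eq_zero_iff_mem, map_mul]; rfl)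
    have haI : a ∉ I := fun h => hPp.ne_top ((Ideal.eq_top_iff_one _).2 ((hPmem 1).2 (by rwa [one_mul])))
    obtain ⟨π, hπ, rfl⟩ := @exists_prime_span_of_height_one A _ _ _ P hPp (hI P hPp a hPmem)
    let J : Ideal A := Submodule.comap (LinearMap.mulRight A π) I
    have hJ : ∀ c, c ∈ J ↔ c * π ∈ I := fun c => Iff.rfl
    have hlt : I < J := by
      refine lt_of_le_of_ne (fun c hc => (hJ c).2 (I.mul_mem_right _ hc)) fun h => haI ?_
      rw [h, hJ, mul_comm]
      exact (hPmem π).1 (Ideal.mem_span_singleton_self π)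
    obtain ⟨γ, hγ, hJγ⟩ := ih J hlt fun Q hQ b hb => hI Q hQ (b * π) fun c => by
      rw [hb c, hJ, mul_assoc]
    refine ⟨γ * π, mul_ne_zero hγ hπ.ne_zero, le_antisymm (fun c hc => ?_) ?_⟩
    · obtain ⟨d, rfl⟩ := Ideal.mem_span_singleton'.1 ((hPmem c).2 (I.mul_mem_right _ hc))
      have hd : d ∈ Ideal.span {γ} := hJγ ▸ (hJ d).2 hc
      obtain ⟨e, rfl⟩ := Ideal.mem_span_singleton'.1 hd
      exact Ideal.mem_span_singleton'.2 ⟨e, by ring⟩
    · rw [Ideal.span_singleton_le_iff_mem]
      exact (hJ γ).1 (hJγ ▸ Ideal.mem_span_singleton_self γ)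

variable {X : Scheme.{u}}

theorem isEffCartier_of_noEmbedded [IsLocallyNoetherian X] (𝓘 : X.IdealSheafData)
    (h1 : ∀ z : ↥𝓘.subscheme, IsAssociatedPrime (IsLocalRing.maximalIdeal ↑(𝓘.subscheme.presheaf.stalk z))
      ↑(𝓘.subscheme.presheaf.stalk z) → ∀ z' : ↥𝓘.subscheme, z' ⤳ z → z' = z)
    (h2 : ∀ z : ↥𝓘.subscheme, (∀ z' : ↥𝓘.subscheme, z' ⤳ z → z' = z) →
      ringKrullDim (X.presheaf.stalk (𝓘.subschemeι z)) = 1)
    (h3 : ∀ x : ↥X, x ∈ 𝓘.support → IsDomain (X.presheaf.stalk x) ∧ UniqueFactorizationMonoid (X.presheaf.stalk x)) :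
    BlowUp.IsEffCartierIdeal 𝓘 := by
  intro x
  obtain ⟨_, ⟨U, hU, rfl⟩, hxU, -⟩ :=
    X.isBasis_affineOpens.exists_subset_of_mem_open (Set.mem_univ x) isOpen_univ
  have hU' : IsAffineOpen U := hU
  haveI : IsNoetherianRing Γ(X, U) := IsLocallyNoetherian.component_noetherian ⟨U, hU'⟩
  set I := 𝓘.ideal ⟨U, hU'⟩ with hI
  set p := (hU'.primeIdealOf ⟨x, hxU⟩).asIdeal with hp
  have hmem : ∀ (y : X) (hy : y ∈ U), y ∈ 𝓘.support ↔ I ≤ (hU'.primeIdealOf ⟨y, hy⟩).asIdeal := by
    intro y hy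
    rw [Scheme.IdealSheafData.mem_support_iff_of_mem (U := ⟨U, hU'⟩) hy, Scheme.mem_zeroLocus_iff]
    have key : ∀ a, y ∈ X.basicOpen a ↔ a ∉ (hU'.primeIdealOf ⟨y, hy⟩).asIdeal :=
      Groth.Agent.QCoh.mem_basicOpen_iff_notMem hU' hy
    exact ⟨fun h a ha => by_contra fun hn => h a ha ((key a).2 hn), fun h a ha hya => (key a).1 hya (h ha)⟩
  suffices H : ∃ a : Γ(X, U), a ∉ p ∧ ∃ g : Γ(X, U), ∀ (S : Type u) [CommRing S] [Algebra Γ(X, U) S]
      [IsLocalization.Away a S], I.map (algebraMap Γ(X, U) S) = Ideal.span {algebraMap Γ(X, U) S g} ∧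
        algebraMap Γ(X, U) S g ∈ nonZeroDivisors S by
    obtain ⟨a, ha, g, hg⟩ := H
    have hxa : x ∈ X.basicOpen a := (Groth.Agent.QCoh.mem_basicOpen_iff_notMem hU' hxU a).2 ha
    haveI := hU'.isLocalization_basicOpen a
    obtain ⟨h1, h2⟩ := hg Γ(X, X.basicOpen a)
    refine ⟨X.affineBasicOpen (U := ⟨U, hU'⟩) a, hxa, _, h2, ?_⟩
    rw [← 𝓘.map_ideal_basicOpen ⟨U, hU'⟩ a]
    exact h1
  by_cases hx : x ∈ 𝓘.support
  · obtain ⟨hdom, hufd'⟩ := h3 x hx
    letI : Algebra Γ(X, U) (X.presheaf.stalk x) := (X.presheaf.germ U x hxU).hom.toAlgebra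
    haveI : IsLocalization.AtPrime (X.presheaf.stalk x) p := hU'.isLocalization_stalk ⟨x, hxU⟩
    haveI : IsNoetherianRing (X.presheaf.stalk x) :=
      IsLocalization.isNoetherianRing p.primeCompl _ ‹IsNoetherianRing Γ(X, U)›
    obtain ⟨g', hg0', hg'⟩ := exists_span_of_assPrimes (I.map (algebraMap Γ(X, U) (X.presheaf.stalk x))) (by
      intro P hP a hPa
      obtain ⟨⟨b, s⟩, hbs⟩ := IsLocalization.surj p.primeCompl a
      have hPb : ∀ c, c ∈ P ↔ c * algebraMap Γ(X, U) (X.presheaf.stalk x) b ∈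
          I.map (algebraMap Γ(X, U) (X.presheaf.stalk x)) := fun c => by
        rw [hPa, ← hbs, ← mul_assoc, Ideal.mul_unit_mem_iff_mem _ (IsLocalization.map_units _ s)]
      let q : PrimeSpectrum Γ(X, U) := ⟨P.comap (algebraMap Γ(X, U) (X.presheaf.stalk x)), inferInstance⟩
      have hqU : hU'.fromSpec q ∈ U := by
        have : hU'.fromSpec q ∈ hU'.fromSpec.opensRange := ⟨q, rfl⟩
        rwa [IsAffineOpen.opensRange_fromSpec] at this
      have hq : hU'.primeIdealOf ⟨hU'.fromSpec q, hqU⟩ = q :=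
        hU'.fromSpec.isOpenEmbedding.injective (hU'.fromSpec_primeIdealOf ⟨_, hqU⟩)
      have hIq : I ≤ q.asIdeal := fun c hc =>
        (hPb _).2 (Ideal.mul_mem_right _ _ (Ideal.mem_map_of_mem _ hc))
      have hqS : hU'.fromSpec q ∈ 𝓘.support := (hmem _ hqU).2 (by rw [hq]; exact hIq)
      rw [← SetLike.mem_coe, ← Scheme.IdealSheafData.range_subschemeι] at hqS
      obtain ⟨z, hz⟩ := hqS
      have hzU : 𝓘.subschemeι z ∈ U := hz ▸ hqU
      have hzq : (hU'.primeIdealOf ⟨𝓘.subschemeι z, hzU⟩).asIdeal = q.asIdeal := by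
        rw [show (⟨𝓘.subschemeι z, hzU⟩ : U) = ⟨hU'.fromSpec q, hqU⟩ from Subtype.ext hz, hq]
      letI : Algebra Γ(X, U) (X.presheaf.stalk (𝓘.subschemeι z)) :=
        (X.presheaf.germ U _ hzU).hom.toAlgebra
      haveI : IsLocalization.AtPrime (X.presheaf.stalk (𝓘.subschemeι z)) q.asIdeal := by
        have := hU'.isLocalization_stalk ⟨𝓘.subschemeι z, hzU⟩
        convert this using 2 <;> first | rfl | exact PrimeSpectrum.ext hzq.symm
      have hker : RingHom.ker (𝓘.subschemeι.stalkMap z).hom =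
          I.map (algebraMap Γ(X, U) (X.presheaf.stalk (𝓘.subschemeι z))) :=
        CartierFP.ker_stalkMap_subschemeι 𝓘 ⟨U, hU'⟩ z hzU
      have hsurj : Function.Surjective (𝓘.subschemeι.stalkMap z).hom :=
        𝓘.subschemeι.stalkMap_surjective z
      set φ := (𝓘.subschemeι.stalkMap z).hom
      set B := algebraMap Γ(X, U) (X.presheaf.stalk (𝓘.subschemeι z))
      have hb0 : φ (B b) ≠ 0 := fun h => by
        rw [← RingHom.mem_ker, hker] at h
        obtain ⟨t, ht, htb⟩ := (IsLocalization.algebraMap_mem_map_algebraMap_iff q.asIdeal.primeCompl _ I b).1 h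
        refine ht ((hPb _).2 ?_)
        rw [← map_mul]
        exact Ideal.mem_map_of_mem _ htb
      have hass : IsAssociatedPrime (IsLocalRing.maximalIdeal (𝓘.subscheme.presheaf.stalk z))
          (𝓘.subscheme.presheaf.stalk z) := by
        refine ⟨inferInstance, φ (B b), ?_⟩
        have hann : IsLocalRing.maximalIdeal (𝓘.subscheme.presheaf.stalk z) =
            (⊥ : Submodule (𝓘.subscheme.presheaf.stalk z) (𝓘.subscheme.presheaf.stalk z)).colon {φ (B b)} := by
          refine le_antisymm (fun c hc => ?_) (IsLocalRing.le_maximalIdeal fun h => hb0 ?_)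
          · obtain ⟨c, rfl⟩ := hsurj c
            obtain ⟨r, t, rfl⟩ := IsLocalization.exists_mk'_eq q.asIdeal.primeCompl c
            have hr : r ∈ q.asIdeal := by_contra fun hr => hc
              (((IsLocalization.AtPrime.isUnit_mk'_iff _ q.asIdeal r t).2 hr).map φ)
            rw [Submodule.mem_colon_singleton, Submodule.mem_bot, smul_eq_mul, ← map_mul, ← RingHom.mem_ker, hker,
              mul_comm, IsLocalization.mul_mk'_eq_mk'_of_mul, IsLocalization.mk'_mem_map_algebraMap_iff]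
            obtain ⟨w, hw, hwm⟩ := (IsLocalization.algebraMap_mem_map_algebraMap_iff p.primeCompl
              (X.presheaf.stalk x) I (r * b)).1 (by rw [map_mul]; exact (hPb _).1 hr)
            refine ⟨w, fun hwq => hw (by_contra fun h => ?_), by rwa [mul_comm b r]⟩
            exact hP.ne_top (Ideal.eq_top_of_isUnit_mem _ hwq (IsLocalization.map_units _ (⟨w, h⟩ : p.primeCompl)))
          · have h' := Ideal.eq_top_iff_one _ |>.1 h
            rwa [Submodule.mem_colon_singleton, Submodule.mem_bot, one_smul] at h'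
        rw [← hann]
        exact (Ideal.IsPrime.radical inferInstance).symm
      have hdim := h2 z (h1 z hass)
      have hh := IsLocalization.AtPrime.ringKrullDim_eq_height q.asIdeal (X.presheaf.stalk (𝓘.subschemeι z))
      rw [hdim] at hh
      have hh' : q.asIdeal.height = 1 := by exact_mod_cast hh.symm
      rw [← hh']
      exact (IsLocalization.height_comap p.primeCompl P).symm)
    obtain ⟨⟨g, u⟩, hgu⟩ := IsLocalization.surj p.primeCompl g'
    have hspan : Ideal.span {algebraMap Γ(X, U) (X.presheaf.stalk x) g} = Ideal.span {g'} := by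
      rw [← hgu, Ideal.span_singleton_mul_right_unit (IsLocalization.map_units _ u)]
    obtain ⟨w, hw, hwg⟩ := (IsLocalization.algebraMap_mem_map_algebraMap_iff p.primeCompl
      (X.presheaf.stalk x) I g).1 (by rw [hg', ← hspan]; exact Ideal.mem_span_singleton_self _)
    have hwspan : Ideal.span {algebraMap Γ(X, U) (X.presheaf.stalk x) (w * g)} = Ideal.span {g'} := by
      rw [map_mul, mul_comm, Ideal.span_singleton_mul_right_unit
        (IsLocalization.map_units _ (⟨w, hw⟩ : p.primeCompl)), hspan]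
    obtain ⟨a, ha, hA⟩ := exists_gen_away I p (X.presheaf.stalk x) (w * g) (fun h0 => by
      rw [h0, Ideal.span_singleton_zero] at hwspan
      exact hg0' (Ideal.span_singleton_eq_bot.1 hwspan.symm)) hwg (hg'.trans hwspan.symm)
    exact ⟨a, ha, _, hA⟩
  · obtain ⟨a, haI, hap⟩ := SetLike.not_le_iff_exists.1 (fun h => hx ((hmem x hxU).2 h))
    refine ⟨a, hap, 1, fun S _ _ _ => ⟨?_, by rw [map_one]; exact one_mem _⟩⟩
    rw [map_one, Ideal.span_singleton_one, Ideal.eq_top_iff_one]
    have hu := IsLocalization.Away.algebraMap_isUnit (S := S) a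
    rw [← hu.unit.inv_mul, hu.unit_spec]
    exact Ideal.mul_mem_left _ _ (Ideal.mem_map_of_mem _ haI)

end Groth.Agent.DivX
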